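import Cfsg.Agent.HZ.L.Chf.Res
import Cfsg.Agent.KZ.Lie.ApiB

/-!
# HZ/L, box `Deg`: multiplicities and degrees under a correspondence (helper96)
-/

set_option autoImplicit false
set_option linter.unusedSectionVars false
set_option maxHeartbeats 400000

namespace Cfsg.Agent.HZ.L.Cf

open Cfsg Subgroup Cfsg.Agent.DL Cfsg.Agent.DL.PP Cfsg.Agent.DL.Uni Cfsg.Agent.DL.Asm Cfsg.Agent.Nodes.Reps Matrix
  Cfsg.Agent.KZ.Lie Cfsg.Agent.HZ.Gen Cfsg.Agent.Characters.Core Cfsg.Agent.RL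
open scoped ComplexConjugate

variable {p : ℕ} [Fact p.Prime] {k : Type} [Field k] [CharP k p] [IsAlgClosed k] {Y : Type} [Group Y] {N : Type}
  [Fintype N] [DecidableEq N] {ρ : Y →* GL N k} {F : MulAut Y} {G : Subgroup Y} {D : Datum p ρ F G}
  {r : ℕ} {w w' : D.W} {c c' : Lbl D}

variable (D) in
/-- the finite set of the pairs (type, label) -/
theorem exists_fin : ∃ S : Finset (D.W × Lbl D), ∀ a : D.W → Lbl D → ℂ, (∀ w c, ¬ Fx D w c → a w c = 0) →
    ∑ᶠ (w : D.W) (c : Lbl D), a w c = ∑ x ∈ S, a x.1 x.2 := by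
  have h : {x : D.W × Lbl D | Fx D x.1 x.2}.Finite :=
    Set.Finite.of_finite_fibers Prod.fst (Set.toFinite _) fun w _ => (Set.Finite.image (Prod.mk w) (s := {c | Fx D w c}) (finite_Fx D w)).subset (by
      rintro ⟨_, c⟩ ⟨h, rfl⟩
      exact ⟨c, h, rfl⟩)
  refine ⟨h.toFinset, fun a ha => ?_⟩
  have h1 : Function.support (fun x : D.W × Lbl D => a x.1 x.2) ⊆ h.toFinset := fun x hx =>
    h.mem_toFinset.2 (by_contra fun e => hx (ha _ _ e))
  rw [← finsum_eq_sum_of_support_subset _ h1, finsum_curry _ (h.toFinset.finite_toSet.subset h1)]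

theorem sum_zero {α β γ : Type} {Q : α → β → γ → Prop} {a : β → γ → ℂ} (h : ∀ x y z, Q x y z → a y z = 0) :
    ∑ᶠ (x : α) (y : β) (z : γ) (_ : Q x y z), a y z = 0 := by
  classical
  exact finsum_eq_zero_of_forall_eq_zero fun x => finsum_eq_zero_of_forall_eq_zero fun y =>
    finsum_eq_zero_of_forall_eq_zero fun z => finsum_eq_if.trans (ite_eq_right_iff.2 (h x y z))

variable [Fintype ↥(GF F G)] (f : Fr D) [hr : Fact r.Prime]

theorem RW_symm : classInner (RW f w c) (RW f w' c') = classInner (RW f w' c') (RW f w c) := by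
  obtain ⟨m, e⟩ := LV.One.inner_int f (RW_gen f w' c') w c
  rw [← classInner_conj_symm (RW f w' c'), e, map_intCast]

variable (s : Sb D) [Fintype ↥(GF F s.K)]

theorem deg_sub (hq : D.QS) (hq' : s.E.QS) (u : s.E.W) (c : Lbl D) :
    RW f (s.sw u * s.w) c 1 * pc' p (GF F s.K) = sg D s.w * pc' p (GF F G) * RW (s.fr f) u c 1 := by
  by_cases h : Fx s.E u c
  swap
  · rw [RW_zero _ h, RW_zero f (mt s.fx_iff.2 h), Pi.zero_apply, Pi.zero_apply, zero_mul, mul_zero]
  have h1 := RW_deg f hq (s.fx_iff.1 h)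
  have h2 := RW_deg (s.fr f) hq' h
  rw [show ordT s.E u = ordT D (s.sw u * s.w) by rw [ordT, ordT, s.WM_eq],
    show sg s.E u = sg D (s.sw u) by rw [sg, sg, s.Wm_eq]] at h2
  have h3 := sg_mul_self D (s.sw u)
  rw [sg_mul] at h1
  refine mul_right_cancel₀ (Nat.cast_ne_zero.2 (ordT_ne (s.sw u * s.w)) : (_ : ℂ) ≠ 0) ?_
  linear_combination (pc' p (GF F s.K) : ℂ) * h1 - sg D s.w * pc' p (GF F G) * h2

variable {s} {P : Subgroup ↥(GF F G)} {χ : ↥(GF F G) → ℂ} {ε : ℂ} {η : ↥(GF F s.K) → ℂ} (hu : Hu D r) (h : s.For r P)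
  (hχ : IsIrrCharacter _ χ) (hχ' : RatR r χ) (hη : IsIrrCharacter _ η) (hC : Cor s r P χ ε η)
include hu h hχ hχ' hη hC

theorem mult (w : D.W) (c : Lbl D) : classInner χ (RW f w c) = ε * (Nat.card s.E.W : ℂ)⁻¹ *
    ∑ᶠ (u : s.E.W) (c' : Lbl D), classInner (RW f w c) (RW f (s.sw u * s.w) c') * classInner η (RW (s.fr f) u c') := by
  have h2 := two_le_sz D
  by_cases h0 : Fx D w c
  swap
  · simp only [RW_zero f h0, classInner_zero_left, classInner_zero_right, zero_mul, finsum_zero, mul_zero]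
  by_cases hc : r ∣ orderOf c
  · have h3 := sm_irr hχ hχ'
    have h4 := hu.big_GF.sm_rs h.grp h3 (hu.bd_nb (i := 0) le_rfl (by norm_num)) s.ι_injective h.range
    have h5 : classInner (s.rs r P χ) η ≠ 0 := fun e => by
      have h6 := hC.2 χ (h3.mono (Nat.one_le_pow _ _ (by omega)))
      rw [e, mul_zero, classInner_irr_self hχ] at h6
      exact one_ne_zero h6
    rw [not_not.1 fun e => lab f h3 (hu.lt ((one_mul _).trans_le hu.card_le) (by norm_num)) hχ
      (by rw [classInner_irr_self hχ]; exact one_ne_zero) e hc, ← sum_rel f s h0, sum_zero, mul_zero]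
    refine fun v u c' e => not_not.1 fun e' =>
      lab (s.fr f) h4 (hu.lt (i := 2) ?_ (by norm_num)) hη h5 e' (orderOf_rel e.2 ▸ hc)
    rw [mul_one, sq]
    exact Nat.mul_le_mul (nb_le_sz D) (s.card_le.trans (hu.card_le.trans (pow_one _).le))
  obtain ⟨S, hS⟩ := exists_fin s.E
  have h3 := hC.2 _ ((sm f w hc).mono (hu.card_le.trans (Nat.pow_le_pow_right (by omega) one_le_two)))
  have h4 : s.rs r P (RW f w c) = (Nat.card s.E.W : ℂ)⁻¹ •
      ∑ x ∈ S, classInner (RW f w c) (RW f (s.sw x.1 * s.w) x.2) • RW (s.fr f) x.1 x.2 := funext fun g => by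
    rw [res' f s hu.ne h (hu.bd_nb hu.card_le (by norm_num)) w hc, sum_rel f s h0,
      hS _ fun u c' e => by rw [RW_zero _ e, Pi.zero_apply, mul_zero], Pi.smul_apply, Finset.sum_apply]
    rfl
  rw [← classInner_conj_symm, h3, h4, hS _ fun u c' e => by rw [RW_zero _ e, classInner_zero_right, mul_zero],
    classInner_smul_left, classInner_sum_left, map_mul, map_mul, map_inv₀, map_natCast, map_sum, mul_assoc,
    show conj ε = ε by rcases hC.1 with rfl | rfl <;> simp]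
  refine congrArg _ (congrArg _ (Finset.sum_congr rfl fun x _ => ?_))
  rw [classInner_smul_left, map_mul, classInner_conj_symm, classInner_conj_symm, RW_symm]

theorem mult' (w : D.W) (c : Lbl D) : classInner χ (RW f w c) = ε * (Nat.card s.E.W : ℂ)⁻¹ *
    ∑ᶠ (v : D.W) (u : s.E.W) (c' : Lbl D) (_ : Tc D v w (s.sw u * s.w) ∧ Rel D v c c'), classInner η (RW (s.fr f) u c') := by
  by_cases h0 : Fx D w c
  · rw [sum_rel f s h0, mult f hu h hχ hχ' hη hC]
  rw [RW_zero f h0, classInner_zero_right, sum_zero, mul_zero]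
  exact fun v u c' e => by
    rw [RW_zero _ fun h1 => h0 (fx_of_tc e.1.symm e.2.symm (s.fx_iff.1 h1)), classInner_zero_right]

theorem has (e : Has f χ w c) : ∃ v u c', Tc D v w (s.sw u * s.w) ∧ Rel D v c c' ∧ Has (s.fr f) η u c' := by
  by_contra h0
  refine e ?_
  rw [mult' f hu h hχ hχ' hη hC, sum_zero, mul_zero]
  exact fun v u c' e => not_not.1 fun e' => h0 ⟨v, u, c', e.1, e.2, e'⟩

theorem deg' (hq : D.QS) : χ 1 * pc' p (GF F s.K) = ε * sg D s.w * pc' p (GF F G) * η 1 := by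
  obtain ⟨f⟩ := nonempty_fr D
  obtain ⟨S, hS⟩ := exists_fin D
  obtain ⟨S', hS'⟩ := exists_fin s.E
  have h1 : ∀ ψ : GF F G → ℂ, ψ 1 = (Nat.card D.W : ℂ)⁻¹ * ∑ x ∈ S, classInner ψ (RW f x.1 x.2) * RW f x.1 x.2 1 := fun ψ => by
    rw [val_one f ψ, hS _ fun w c e => by rw [RW_zero f e, Pi.zero_apply, mul_zero]]
  have h2 : χ 1 = ε * (Nat.card s.E.W : ℂ)⁻¹ * ∑ y ∈ S', classInner η (RW (s.fr f) y.1 y.2) * RW f (s.sw y.1 * s.w) y.2 1 := by
    rw [h1 χ, Finset.sum_congr rfl fun (y : s.E.W × Lbl s.E) _ =>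
      congrArg (classInner η (RW (s.fr f) y.1 y.2) * ·) (h1 (RW f (s.sw y.1 * s.w) y.2))]
    simp only [mult f hu h hχ hχ' hη hC, Finset.mul_sum]
    rw [Finset.sum_comm]
    refine Finset.sum_congr rfl fun x _ => ?_
    rw [hS' _ fun u c' e => by rw [RW_zero _ e, classInner_zero_right, mul_zero], Finset.mul_sum, Finset.sum_mul, Finset.mul_sum]
    refine Finset.sum_congr rfl fun y _ => ?_
    rw [RW_symm]
    ring
  rw [h2, val_one (s.fr f) η, hS' _ fun w c e => by rw [RW_zero _ e, Pi.zero_apply, mul_zero]]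
  simp only [Finset.mul_sum, Finset.sum_mul]
  refine Finset.sum_congr rfl fun y _ => ?_
  linear_combination ε * (Nat.card s.E.W : ℂ)⁻¹ * classInner η (RW (s.fr f) y.1 y.2) * deg_sub f s hq h.qs y.1 y.2

theorem deg (hq : D.QS) : χ 1 * pc' p (GF F s.K) = pc' p (GF F G) * η 1 := by
  have h1 := deg' hu h hχ hχ' hη hC hq
  obtain ⟨a, ha, e⟩ := isIrr_apply_one hχ
  obtain ⟨b, hb, e'⟩ := isIrr_apply_one hη
  have h2 : 0 < pc' p (GF F s.K) := Nat.pos_of_ne_zero fun e => not_dvd_pc' (p := p) (GF F s.K) (e ▸ dvd_zero p)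
  have h3 : ε * sg D s.w = 1 ∨ ε * sg D s.w = -1 := by
    rcases hC.1 with rfl | rfl <;> rcases sg_sign D s.w with e | e <;> simp [e]
  rcases h3 with h3 | h3
  · rwa [h3, one_mul] at h1
  · rw [h3, e, e', neg_one_mul, neg_mul, eq_neg_iff_add_eq_zero] at h1
    have h4 : a * pc' p (GF F s.K) + pc' p (GF F G) * b = 0 := by exact_mod_cast h1
    have h5 := mul_pos ha h2
    omega

omit hu h hχ hχ' hη hC

variable (D) in
theorem boxDeg : BoxDeg D := fun hq f _ _ _ _ _ hu h _ _ _ hχ hχ' hη hC =>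
  ⟨mult' f hu h hχ hχ' hη hC, fun _ _ => has f hu h hχ hχ' hη hC, deg hu h hχ hχ' hη hC hq⟩

end Cfsg.Agent.HZ.L.Cf
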