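import Cfsg.Agent.HZ.L.Bas
import Cfsg.Agent.HZ.Gen.Rst
import Cfsg.Agent.HZ.Gen.Gal

/-!
# HZ/L, box `Chf`: adjunction, smallness, labels (helper96)
-/

set_option autoImplicit false
set_option linter.unusedSectionVars false
set_option maxHeartbeats 400000

namespace Cfsg.Agent.HZ.L.Cf

open Cfsg Subgroup Cfsg.Agent.DL Cfsg.Agent.DL.PP Cfsg.Agent.DL.Uni Cfsg.Agent.DL.Asm Cfsg.Agent.Nodes.Reps Matrix
  Cfsg.Agent.KZ.Lie Cfsg.Agent.HZ.Gen Cfsg.Agent.Characters.Core Cfsg.Agent.RL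

variable {p : ℕ} [Fact p.Prime] {k : Type} [Field k] [CharP k p] [IsAlgClosed k] {Y : Type} [Group Y] {N : Type}
  [Fintype N] [DecidableEq N] {ρ : Y →* GL N k} {F : MulAut Y} {G : Subgroup Y} {D : Datum p ρ F G}
  {r B : ℕ} {v w : D.W} {c c' : Lbl D}

theorem not_dvd_W [Fact r.Prime] (hb : bd (nb D) B < r) : ¬ r ∣ Nat.card D.W := fun e => by
  have h1 := Nat.le_of_dvd Nat.card_pos e
  have h2 := two_mul_lt hb
  have h3 := card_le_nb D
  omega

theorem ov_E (s : Sb D) : RL.Ov D s.E := (RL.Ov.conj s.hy s.hF).trans (RL.Ov.sub s.hZ s.hg rfl)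

/-- the type of a frame of the subgroup -/
theorem rp_sub (s : Sb D) {u : s.E.W} {y : Y} (h : s.E.Rp u (y⁻¹ * F y)) :
    D.Rp (s.sw u * s.w) ((y * s.y)⁻¹ * F (y * s.y)) := by
  have h1 : (D.conj s.hy s.hF).Rp (s.sw u) (s.y * (s.y⁻¹ * (y⁻¹ * F y) * s.y) * s.y⁻¹) := by
    rw [show s.y * (s.y⁻¹ * (y⁻¹ * F y) * s.y) * s.y⁻¹ = y⁻¹ * F y by group]
    exact (D.conj s.hy s.hF).rp_of_sub s.hZ s.hg rfl h
  rw [show (y * s.y)⁻¹ * F (y * s.y) = s.y⁻¹ * (y⁻¹ * F y) * s.y * (s.y⁻¹ * F s.y) by rw [map_mul]; group]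
  exact ((D.conj_rp_iff s.hy s.hF).1 h1).mul (D.rp_pr s.hF)

theorem lab_sub (s : Sb D) {d : ℕ} {ζ : kˣ} {y : Y} {θ : Y → ℂ} (h : Lab s.E d ζ y θ c) : Lab D d ζ (y * s.y) θ c := fun x => by
  rw [← h x]
  congr 2
  show _ = y * (s.y * D.τ _ * s.y⁻¹) * y⁻¹
  group

theorem cj_sub (s : Sb D) (y : Y) : cj y s.E.T = cj (y * s.y) D.T := (cj_mul _ _ _).symm

theorem mem_of_le {P : Subgroup ↥(GF F G)} {s : Sb D} (h : s.For r P) {T : Subgroup Y} (hT : T ∈ tori D) (e : T ≤ s.K) :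
    ∀ a ∈ P, (a : Y) ∈ T := fun a ha => by
  obtain ⟨X, -, rfl⟩ := (Rg.top D).frame hT (tori_le hT)
  exact X.centralizer_T.le ⟨a.2.1, fun t ht => ((h.cen.le (e ht)).2 _ ⟨a, ha, rfl⟩).symm⟩

variable [Fintype ↥(GF F G)] (f : Fr D) [hr : Fact r.Prime]

theorem res_ext {H : Subgroup Y} (φ : H → ℂ) : res H (extendByZero H φ) = φ := funext fun g => extendByZero_of_mem _ _ g.2

theorem res_rs (s : Sb D) (P : Subgroup ↥(GF F G)) (φ : ↥(GF F G) → ℂ) :
    res (GF F s.K) (extendByZero (GF F G) (rs r P φ)) = s.rs r P φ := funext fun g => extendByZero_of_mem _ _ (s.le g.2)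

theorem adj {P : Subgroup ↥(GF F G)} (s : Sb D) [Fintype ↥(GF F s.K)] (hp : r ≠ p) (h : s.For r P) {φ : ↥(GF F G) → ℂ}
    (hφ : Sm r B φ) (hb : bd (nb D) B < r) (u : s.E.W) (c : Lbl D) :
    classInner (s.rs r P φ) (RW (s.fr f) u c) = classInner φ (RW f (s.sw u * s.w) c) := by
  by_cases hc : Fx s.E u c
  swap
  · rw [RW_zero _ hc, RW_zero f (mt s.fx_iff.2 hc), classInner_zero_right, classInner_zero_right]
  have h1 := (ov_E s).tori_eq.le (Tw_mem (D := s.E) u)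
  have h2 := ip_rs (χ := extendByZero _ φ) (η := extendByZero (GF F G) (rs r P φ)) hp (not_dvd_W hb) h.grp hφ hb h.cen
    (fun g => extendByZero_of_mem _ _ g.2) (fun g _ => extendByZero_of_mem _ _ g.2) (ov_E s) h1.1 (mem_of_le h h1.1 h1.2)
    (th (s.fr f) u c)
  rw [ip_eq_classInner, ip_eq_classInner, res_ext, res_rs] at h2
  refine h2.trans (congrArg _ (funext fun g => ?_))
  rw [Tw, cj_sub]
  exact R_eq_RW f (mul_mem (s.K_le (yw_mem s.E u)) s.hy) (rp_sub s (yw_rp s.E u)) (lab_sub s (th_spec (s.fr f) hc).2) g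

theorem nrm_RW (w : D.W) (c : Lbl D) : (classInner (RW f w c) (RW f w c)).re ≤ Nat.card D.W := by
  by_cases hc : Fx D w c
  · rw [RW_ip f hc hc, Complex.natCast_re]
    exact Nat.cast_le.2 (Finite.card_subtype_le _)
  · rw [RW_zero f hc, classInner_zero_right, Complex.zero_re]
    exact Nat.cast_nonneg _

theorem sm (w : D.W) {c : Lbl D} (hc : ¬ r ∣ orderOf c) : Sm r (Nat.card D.W) (RW f w c) := by
  refine ⟨RW_gen f w c, nrm_RW f w c, ratR_of_fix (RW_gen f w c) hc fun σ hσ g => ?_⟩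
  rw [← RW_gal]
  congr 1
  exact funext fun j => Units.ext (hσ _ (by
    rw [← Units.val_pow_eq_pow_val, ← Pi.pow_apply, pow_orderOf_eq_one, Pi.one_apply, Units.val_one]))

theorem lab {φ χ : ↥(GF F G) → ℂ} (hφ : Sm r B φ) (hb : B * Nat.card D.W + 1 < r) (hχ : IsIrrCharacter _ χ)
    (h' : classInner φ χ ≠ 0) (h : Has f χ w c) : ¬ r ∣ orderOf c := by
  classical
  intro hc
  have h0 : orderOf c * Nat.card ↥(GF F G) ≠ 0 := mul_ne_zero (LV.One.orderOf_pos_of_fx h.fx).ne' Nat.card_pos.ne'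
  set n := orderOf c * Nat.card ↥(GF F G) with hn
  have hm : r.Coprime (ordCompl[r] n) := Nat.coprime_ordCompl hr.out h0
  obtain ⟨t, m, ht, hφt⟩ := exists_const hφ.gen hφ.nrm
  have key : ∀ i : Finset.Ioo 0 r, ∃ (u : ℕ) (ψ : IrrCharacter (GF F G)), u ≡ i [MOD r] ∧
      ψ ∈ t ∧ classInner ψ.1 (RW f w (c ^ u)) ≠ 0 := fun ⟨i, hi⟩ => by
    obtain ⟨u, h1, h2⟩ := Nat.chineseRemainder hm i 1
    have h3 : u.Coprime r := by
      rw [Nat.Coprime, h1.gcd_eq]
      exact (Nat.coprime_of_lt_prime (Finset.mem_Ioo.1 hi).1.ne' (Finset.mem_Ioo.1 hi).2 hr.out).symm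
    have h4 : u.Coprime (ordCompl[r] n) := by rw [Nat.Coprime, h2.gcd_eq, Nat.gcd_one_left]
    obtain ⟨σ, hσ⟩ := Characters.GaloisBasic.exists_ringEquiv_pow (n := n) (m := u) h0
      (by
        rw [← Nat.ordProj_mul_ordCompl_eq_self n r]
        exact (h3.pow_right _).mul_right h4)
    have h5 : gal σ c = c ^ u := funext fun j => Units.ext (by
        rw [Pi.pow_apply, Units.val_pow_eq_pow_val]
        exact hσ _ (by rw [← Units.val_pow_eq_pow_val, ← Pi.pow_apply, hn, pow_mul, pow_orderOf_eq_one, one_pow,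
          Pi.one_apply, Units.val_one]))
    have h6 := hφ.rat.fix hφ.gen σ fun a z h7 h8 h9 => by
      have h10 : a ∣ n := h8.mul_left _
      have h11 : a ∣ ordCompl[r] n := by
        rw [← Nat.ordProj_mul_ordCompl_eq_self n r] at h10
        exact ((hr.out.coprime_iff_not_dvd.2 h7).symm.pow_right _).dvd_of_dvd_mul_left h10
      obtain ⟨b, hb⟩ := h10
      rw [hσ z (by rw [hb, pow_mul, h9, one_pow]), pow_eq_pow_of_modEq (h2.of_dvd h11) h9, pow_one]
    refine ⟨u, ⟨_, Characters.GaloisIrr.isIrr_map σ hχ⟩, h1, by_contra fun h7 => ?_, h5 ▸ LV.One.inner_gal f σ hχ h⟩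
    have h8 := Characters.GaloisIrr.classInner_map σ (χ := φ) (isIrr_isCharacter hχ)
    rw [funext h6] at h8
    refine h' ((map_eq_zero σ).1 (h8.symm.trans ?_))
    rw [show φ = ∑ ψ ∈ t, (m ψ : ℂ) • (ψ : GF F G → ℂ) from funext fun g => by
      rw [hφt, Finset.sum_apply]; rfl, classInner_sum_left]
    exact Finset.sum_eq_zero fun ψ hψ => by
      rw [classInner_smul_left, classInner_irr_ne ψ.2 (Characters.GaloisIrr.isIrr_map σ hχ)
        fun e => h7 (by rwa [← show ψ = ⟨_, _⟩ from Subtype.ext e]), mul_zero]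
  choose u ψ h1 h2 h3 using key
  have h4 := Finset.card_le_mul_card_image (f := ψ) Finset.univ (Nat.card D.W) fun a _ => by
    rw [← Finset.card_image_of_injOn (f := fun i => c ^ u i) fun i _ j _ e => Subtype.ext (Nat.ModEq.eq_of_lt_of_lt
      ((h1 i).symm.trans (((pow_eq_pow_iff_modEq.1 e).of_dvd hc).trans (h1 j))) (Finset.mem_Ioo.1 i.2).2
      (Finset.mem_Ioo.1 j.2).2)]
    refine LV.One.card_lab_le f (w := w) a.2 _ fun b hb => ?_
    obtain ⟨i, hi, rfl⟩ := Finset.mem_image.1 hb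
    exact (Finset.mem_filter.1 hi).2 ▸ h3 i
  have h5 := (Finset.card_le_card (s := Finset.univ.image ψ) (t := t) fun a ha => by
    obtain ⟨i, -, rfl⟩ := Finset.mem_image.1 ha
    exact h2 i).trans ht
  rw [Finset.card_univ, Fintype.card_coe, Nat.card_Ioo] at h4
  have h6 := h4.trans (Nat.mul_le_mul_left _ h5)
  rw [mul_comm] at h6
  omega

end Cfsg.Agent.HZ.L.Cf
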