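import Cfsg.Agent.HZ.L.Chf.Adj

/-!
# HZ/L, box `Chf`: the restriction of a Deligne-Lusztig character (helper96)
-/

set_option autoImplicit false
set_option linter.unusedSectionVars false
set_option maxHeartbeats 400000

namespace Cfsg.Agent.HZ.L.Cf

open Cfsg Subgroup Cfsg.Agent.DL Cfsg.Agent.DL.PP Cfsg.Agent.DL.Uni Cfsg.Agent.DL.Asm Cfsg.Agent.Nodes.Reps Matrix
  Cfsg.Agent.KZ.Lie Cfsg.Agent.HZ.Gen Cfsg.Agent.Characters.Core Cfsg.Agent.RL Cfsg.Agent.DL.CF Cfsg.Agent.Blocks.PPart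

variable {p : ℕ} [Fact p.Prime] {k : Type} [Field k] [CharP k p] [IsAlgClosed k] {Y : Type} [Group Y] {N : Type}
  [Fintype N] [DecidableEq N] {ρ : Y →* GL N k} {F : MulAut Y} {G C T : Subgroup Y} {D : Datum p ρ F G}
  {X : Datum p ρ F C} {r B : ℕ} {v w : D.W} {c c' : Lbl D} {t u : Y} {χ η : Y → ℂ}

theorem mem_tor (hT : T ∈ tori D) (ht : t ∈ G) (h : ∀ x ∈ T, x * t = t * x) : t ∈ T := by
  obtain ⟨X, -, rfl⟩ := (Rg.top D).frame hT (tori_le hT)
  exact X.centralizer_T.le ⟨ht, h⟩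

/-- the character formula with a given datum of the connected centraliser -/
theorem cent_of (HX : RL.Ov D X) (hT : T ∈ tori D) (ht : t ∈ T ⊓ GF F G) (e : C = cco G t) :
    Cent p (GF F G) (tori D) (R D) t (GF F C) (R X) := by
  subst e
  obtain ⟨DC, hC⟩ := subBox G D T hT t ht.1 ht.2.2
  refine cent_R subBox purBox' orthBox' uniBox hT ht ⟨fun T' V h hs => ?_, fun T' h => ?_, hC.cut⟩ (sys' X)
  · exact ((LP.of_pair (RL.Ov.refl D) h).cut ⟨X, HX⟩ (cco_le _ _)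
      ((Rg.top D).le_cco h.mem_tori (pair_T_le h) hs)).pair HX h.mem_tori
  · have h1 := HX.tori_eq.le h
    exact ⟨h1.1, mem_tor h1.1 ht.2.1 fun x hx => comm_of_mem_cco (h1.2 hx)⟩

/-- the uniform projections at an element with a small centraliser -/
theorem pr_loc (HX : RL.Ov D X) (e : ∀ T ∈ tori D, T ≤ C → ∀ t ∈ T ⊓ GF F G,
      rst (GF F C) (R X) T η t = rst (GF F G) (R D) T χ t) (ht : t ∈ GF F G) (hs : IsSs p t) (hu : u ∈ GF F G)
    (huu : IsUni p u) (hc : u * t = t * u) (h : cco G t ≤ C) :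
    pr (GF F C) (tori X) (R X) η (t * u) = pr (GF F G) (tori D) (R D) χ (t * u) := by
  obtain ⟨T, hT, -, h1⟩ := (Rg.top D).toral ht hs
  obtain ⟨Z, HZ⟩ := (Rg.top D).cco ht hs
  have h2 : ∀ T ∈ tori D, t ∈ T → T ≤ C := fun T hT h1 => ((Rg.top D).le_cco hT (tori_le hT) h1).trans h
  have ht' : t ∈ GF F C := ⟨h2 T hT h1 h1, ht.2⟩
  have Z1 := cent_of HZ hT ⟨h1, ht⟩ rfl
  have Z2 := cent_of (HX.cancel HZ h) (HX.tori_eq.ge ⟨hT, h2 T hT h1⟩) ⟨h1, ht'⟩ (cco_eq D ht hs HX.le h).symm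
  have hu' := Z1.uni u hu huu hc
  rw [Z2.pr_mul (sys' X) ht' η hu' huu, Z1.pr_mul (sys' D) ht χ hu' huu,
    show {T | T ∈ tori X ∧ t ∈ T} = {T | T ∈ tori D ∧ t ∈ T} from Set.ext fun T =>
      ⟨fun h => ⟨(HX.tori_eq.le h.1).1, h.2⟩, fun h => ⟨HX.tori_eq.ge ⟨h.1, h2 T h.1 h.2⟩, h.2⟩⟩]
  exact Z1.sys.usum_congr (fun T hT _ _ => e T hT.1 (h2 T hT.1 hT.2) t ⟨hT.2, ht⟩) u hu'

variable [Fintype ↥(GF F G)] (f : Fr D) [hr : Fact r.Prime]

/-- the uniform projection in terms of labels -/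
theorem pr_eq (χ : Y → ℂ) (g : GF F G) : pr (GF F G) (tori D) (R D) χ g =
    (Nat.card D.W : ℂ)⁻¹ * ∑ᶠ (w : D.W) (c : Lbl D), classInner (res (GF F G) χ) (RW f w c) * RW f w c g := by
  have S := sys' D
  refine usum_eq _ _ _ fun y hy w hw => ?_
  have := S.finT (cj y D.T)
  have := finite_hom (cj y D.T ⊓ GF F G)
  have := Fintype.ofFinite (↥(cj y D.T ⊓ GF F G) →* ℂˣ)
  rw [S.R_eq_sum_lin (mem_tori hy hw) _ _ g.2, Finset.sum_apply,
    ← sum_lab f hy hw (fun ψ => classInner (res (GF F G) χ) ψ * ψ g) (by simp [classInner_zero_right])]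
  refine Finset.sum_congr rfl fun θ _ => ?_
  rw [← S.ip_rst (mem_tori hy hw), ip_eq_classInner]
  rfl

/-- generic elements for the algebraic group -/
theorem exists_gen (hp : r ≠ p) (hb : bd (nb D) B < r) {P : Subgroup ↥(GF F G)} (hP : IsPGroup r P)
    (hC : C = G ⊓ centralizer (P.map (GF F G).subtype : Set Y)) {g b : GF F G} (hg : g ∈ centralizer (P : Set (GF F G)))
    (h : IsPPart r g b) : ∃ a ∈ P, G ⊓ centralizer {((a * b : GF F G) : Y)} ≤ C := by
  classical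
  have hW := not_dvd_W hb
  have hQ := part_sup hP hg h
  obtain ⟨T, hT, hQT⟩ := exists_tor D hp hW hQ
  obtain ⟨y, hy, w, hw, rfl⟩ := exists_y hT
  set D' := D.conj hy ⟨w, hw⟩
  obtain ⟨s, h1, h2, h3⟩ := exists_rootcuts D' ((GF F G).subtype.comp (P ⊔ zpowers b).subtype)
    (Subtype.val_injective.comp Subtype.val_injective) (fun x => hQT x x.2) (P.subgroupOf (P ⊔ zpowers b))
  rw [← Subgroup.map_map, subgroupOf_map_subtype, inf_eq_left.2 le_sup_left] at h3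
  obtain ⟨-, h5⟩ := num_rst hb rfl Nat.card_pos
  obtain ⟨a, ha⟩ := exists_good hP s (fun α => α.comp (inclusion le_sup_left)) (fun α => (α ⟨b, mem_sup_right (mem_zpowers b)⟩)⁻¹)
    (fun α hα h => h2 α hα (MonoidHom.ext fun a => DFunLike.congr_fun h ⟨a.1.1, a.2⟩))
    ((h1.trans (Nat.le_mul_of_pos_right _ (Nat.succ_pos _))).trans_lt h5)
  have h7 := h3 (inclusion le_sup_left a * ⟨b, mem_sup_right (mem_zpowers b)⟩) fun α hα e =>
    ha α hα (by rw [map_mul] at e; exact eq_inv_of_mul_eq_one_left e)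
  obtain ⟨-, -, -, ho, -⟩ := part_mul hP hg h a.2
  have hb' : ((a * b : GF F G) : Y) ∈ D'.T := hQT _ (mul_mem_sup a.2 (mem_zpowers b))
  refine ⟨a, a.2, (cen_eq D' hW (Set.singleton_subset_iff.2 hb') fun z hz => ho.imp fun i e => by
      rw [hz, ← e, ← Subgroup.orderOf_coe, pow_orderOf_eq_one]).le.trans (h7.trans ?_)⟩
  rw [hC]
  refine le_inf (D'.cen_le_G _) (D'.cen_le_centralizer ?_)
  rintro _ ⟨x, hx, rfl⟩
  exact hQT x (mem_sup_left hx)

/-- the `r`-part is a power of the semisimple part -/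
theorem part_mem_ss {H : Type*} [Group H] [Finite H] (hp : r ≠ p) {x b s u : H} (h : IsPPart r x b) (hJ : IsJ p x s u) :
    b ∈ zpowers s := by
  obtain ⟨b', hb⟩ := exists_isPPart r s
  have h1 := part_mem hb (mem_zpowers s)
  obtain ⟨y, e, h2, h3, h4⟩ := hb
  have h5 : Commute s u := hJ.comm
  have h6 : Commute b' u := by
    obtain ⟨n, rfl⟩ := h1
    exact h5.zpow_left n
  have h7 : Commute y u := by
    rw [show y = b'⁻¹ * s by rw [← e, inv_mul_cancel_left]]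
    exact h6.inv_left.mul_left h5
  obtain ⟨j, h8⟩ := hJ.uni
  rw [isPPart_unique h ⟨y * u, by rw [← mul_assoc, e, hJ.eq], h2.mul_right h6, h3, fun h9 => ?_⟩]
  · exact h1
  rcases (hr.out.dvd_mul).1 (h9.trans h7.orderOf_mul_dvd_mul_orderOf) with h10 | h10
  · exact h4 h10
  · exact hp ((Nat.prime_dvd_prime_iff_eq hr.out Fact.out).1 (hr.out.dvd_of_dvd_pow (h8 ▸ h10)))

/-- the restriction of a uniform function at generic elements -/
theorem rs_pr {P : Subgroup ↥(GF F G)} (s : Sb D) [Fintype ↥(GF F s.K)] (hp : r ≠ p) (h : s.For r P) {φ : ↥(GF F G) → ℂ}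
    (hφ : Sm r B φ) (hb : bd (nb D) B < r) (hu : ∀ g : GF F G, φ g = pr (GF F G) (tori D) (R D) (extendByZero _ φ) g)
    (g : GF F s.K) : ∃ a : GF F s.K, s.ι a ∈ P ∧
      s.rs r P φ g = pr (GF F s.K) (tori s.E) (R s.E) (extendByZero (GF F G) (rs r P φ)) (a * g : GF F s.K) := by
  have hW := not_dvd_W hb
  have hg : s.ι g ∈ centralizer (P : Set (GF F G)) := h.range.le ⟨g, rfl⟩
  obtain ⟨b, hb0⟩ := exists_isPPart r (s.ι g)
  obtain ⟨a, ha, h1⟩ := exists_gen hp hb h.grp h.cen hg hb0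
  obtain ⟨a, rfl⟩ := h.range.ge ((big_GF D hp hW).ab' h.grp ha)
  have h2 := part_mul h.grp hg hb0 ha
  obtain ⟨t, -, u, -, hJ⟩ := exists_isJ (p := p) (H := ⊤) (mem_top (s.ι a * s.ι g))
  have h3 : Gn r (centralizer P) (s.ι a * s.ι g) := (gn_iff h2).2 fun c hc => (mem_C h.cen).1
    (h1 ⟨c.2.1, mem_centralizer_singleton_iff.2 (congrArg Subtype.val (mem_centralizer_singleton_iff.1 hc))⟩)
  have e : ((a * g : GF F s.K) : Y) = t * u := (congrArg Subtype.val hJ.eq).symm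
  refine ⟨a, ha, ((big_GF D hp hW).rs_eq h.grp hφ hb hg ha h3).trans ((hu _).trans ?_)⟩
  rw [e, ← hJ.eq]
  refine (pr_loc (ov_E s) (fun T hT hK => rst_rs hp hW h.grp hφ hb h.cen (fun g => extendByZero_of_mem _ _ g.2)
    (fun g _ => extendByZero_of_mem _ _ g.2) (ov_E s) hT (mem_of_le h hT hK)) t.2 ?_ u.2 ?_ (congrArg Subtype.val hJ.comm).symm
    fun x hx => h1 ⟨cco_le _ _ hx, ?_⟩).symm
  · rw [IsSs, Subgroup.orderOf_coe]
    exact hJ.ss
  · rw [IsUni, Subgroup.orderOf_coe]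
    exact hJ.uni
  · obtain ⟨n, e⟩ := part_mem_ss hp h2 hJ
    rw [← e]
    exact mem_centralizer_singleton_iff.2 (Commute.zpow_right (comm_of_mem_cco hx) n)

theorem orderOf_rel (h : Rel D v c c') : orderOf c' = orderOf c :=
  orderOf_eq_orderOf_iff.2 fun n => ⟨fun e => Tl.eq_one (e ▸ Tl.pow (rel_iff.1 h) n),
    fun e => Tl.eq_one (e ▸ Tl.pow (rel_iff.1 h.symm) n)⟩

/-- sums over the conjugate labels -/
theorem sum_rel (s : Sb D) (hc : Fx D w c) (a : s.E.W → Lbl D → ℂ) :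
    ∑ᶠ (v : D.W) (u : s.E.W) (c' : Lbl D) (_ : Tc D v w (s.sw u * s.w) ∧ Rel D v c c'), a u c' =
      ∑ᶠ (u : s.E.W) (c' : Lbl D), classInner (RW f w c) (RW f (s.sw u * s.w) c') * a u c' := by
  classical
  have := Fintype.ofFinite D.W
  have := @Fintype.ofFinite s.E.W (Finite.of_injective _ s.sw_injective)
  simp only [finsum_eq_sum_of_fintype]
  rw [Finset.sum_comm]
  refine Finset.sum_congr rfl fun u _ => ?_
  have h1 : {c' : Lbl D | Fx D (s.sw u * s.w) c'}.Finite := finite_Fx D _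
  rw [← finsum_sum_comm _ _ fun v _ => h1.subset fun c' h => by_contra fun h2 => h
    (finsum_eq_if.trans (if_neg fun e => h2 (fx_of_tc e.1 e.2 hc)))]
  refine finsum_congr fun c' => ?_
  simp only [finsum_eq_if]
  by_cases h2 : Fx D (s.sw u * s.w) c'
  · rw [RW_ip f hc h2, Nat.card_eq_fintype_card, Fintype.card_subtype, ← Finset.sum_filter, Finset.sum_const, nsmul_eq_mul]
  · rw [RW_zero f h2, classInner_zero_right, zero_mul]
    exact Finset.sum_eq_zero fun v _ => if_neg fun e => h2 (fx_of_tc e.1 e.2 hc)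

theorem res' {P : Subgroup ↥(GF F G)} (s : Sb D) [Fintype ↥(GF F s.K)] (hp : r ≠ p) (h : s.For r P)
    (hb : bd (nb D) (Nat.card D.W) < r) (w : D.W) {c : Lbl D} (hc : ¬ r ∣ orderOf c) (g : GF F s.K) :
    s.rs r P (RW f w c) g = (Nat.card s.E.W : ℂ)⁻¹ *
      ∑ᶠ (v : D.W) (u : s.E.W) (c' : Lbl D) (_ : Tc D v w (s.sw u * s.w) ∧ Rel D v c c'), RW (s.fr f) u c' g := by
  classical
  by_cases h0 : Fx D w c
  swap
  · rw [RW_zero f h0, finsum_eq_zero_of_forall_eq_zero, mul_zero]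
    · rfl
    exact fun v => finsum_eq_zero_of_forall_eq_zero fun u => finsum_eq_zero_of_forall_eq_zero fun c' =>
      finsum_eq_if.trans (ite_eq_right_iff.2 fun e => congrFun
        (RW_zero _ fun h1 => h0 (fx_of_tc e.1.symm e.2.symm (s.fx_iff.1 h1))) g)
  obtain ⟨a, ha, e⟩ := rs_pr s hp h (sm f w hc) hb (fun g => ((sys' D).unif_eq_pr
    (((sys' D).unif_R (Tw_mem w) (th f w c)).congr fun x hx => (extendByZero_of_mem _ (RW f w c) hx).symm) g g.2).symm ▸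
      (extendByZero_of_mem _ _ g.2).symm) g
  rw [e, pr_eq (s.fr f), res_rs]
  simp only [adj f s hp h (sm f w hc) hb]
  rw [← sum_rel f s h0 fun u c' => RW (s.fr f) u c' (a * g)]
  refine congrArg _ (finsum_congr fun v => finsum_congr fun u => finsum_congr fun c' => finsum_congr fun e => ?_)
  refine RW_cen' (s.fr f) a (fun y hy => ((h.cen.le hy).2 _ ⟨_, ha, rfl⟩).symm) u c' _ (pow_orderOf_eq_one c') ?_ g
  obtain ⟨j, e'⟩ := ord_of_mem h.grp ha
  rw [orderOf_rel e.2, ← orderOf_injective s.ι s.ι_injective, e']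
  exact (hr.out.coprime_iff_not_dvd.2 hc).symm.pow_right j

variable (D) in
/-- the box holds without the quasi-split hypothesis -/
theorem chf : Chf D where
  adj f _ _ _ s _ hp h _ _ hφ hb := adj f s hp h hφ hb
  sm f _ _ _ w _ hc := sm f w hc
  lab f _ _ _ _ hφ hb _ hχ h' _ _ h := lab f hφ hb hχ h' h
  res f _ _ _ s _ hp h hb w _ hc := res' f s hp h hb w hc

variable (D) in
theorem boxChf : BoxChf D := fun _ => chf D

end Cfsg.Agent.HZ.L.Cf
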